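import Groth.Agent.Deligne.Points
import Mathlib

/-!
The regular topology of a small abelian category: the Yoneda embedding into abelian sheaves is fully
faithful and exact, and there are enough points.
-/

set_option autoImplicit false
set_option linter.style.haveILetI false
set_option backward.isDefEq.respectTransparency false
set_option backward.isDefEq.respectTransparency.types false

universe u

open CategoryTheory Category Limits Opposite

namespace Groth.Agent.RegularAb

variable (A : Type u) [SmallCategory A] [Abelian A] [Preregular A]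

lemma isSheaf_preadditiveYoneda (X : A) :
    Presheaf.IsSheaf (regularTopology A) (preadditiveYoneda.obj X) := by
  refine Presheaf.isSheaf_of_isSheaf_comp (regularTopology A) _ (forget AddCommGrpCat.{u}) ?_
  rw [isSheaf_iff_isSheaf_of_type]
  exact regularTopology.isSheaf_yoneda_obj X

/-- the Yoneda embedding into abelian sheaves -/
noncomputable def emb : A ⥤ Sheaf (regularTopology A) AddCommGrpCat.{u} where
  obj X := ⟨preadditiveYoneda.obj X, isSheaf_preadditiveYoneda A X⟩
  map f := ⟨preadditiveYoneda.map f⟩
  map_id X := Sheaf.hom_ext (preadditiveYoneda.map_id X)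
  map_comp f g := Sheaf.hom_ext (preadditiveYoneda.map_comp f g)

/-- it is the sheafified embedding -/
noncomputable def embIso :
    emb A ≅ preadditiveYoneda ⋙ presheafToSheaf (regularTopology A) AddCommGrpCat.{u} :=
  (Functor.rightUnitor (emb A)).symm ≪≫
    Functor.isoWhiskerLeft (emb A) (asIso (sheafificationAdjunction (regularTopology A) AddCommGrpCat.{u}).counit).symm

instance : (emb A ⋙ sheafToPresheaf (regularTopology A) AddCommGrpCat.{u}).Full :=
  inferInstanceAs (preadditiveYoneda (C := A)).Full

instance : (emb A ⋙ sheafToPresheaf (regularTopology A) AddCommGrpCat.{u}).Faithful :=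
  inferInstanceAs (preadditiveYoneda (C := A)).Faithful

instance full_emb : (emb A).Full := Functor.Full.of_comp_faithful (emb A) (sheafToPresheaf _ _)

instance faithful_emb : (emb A).Faithful := Functor.Faithful.of_comp (emb A) (sheafToPresheaf _ _)

lemma preservesFiniteLimits_emb : PreservesFiniteLimits (emb A) := by
  haveI : PreservesFiniteLimits (preadditiveYoneda (C := A)) := ⟨fun K _ _ => by
    refine preservesLimitsOfShape_of_evaluation _ K fun Y => ?_
    exact inferInstanceAs (PreservesLimitsOfShape K (preadditiveCoyoneda.obj Y))⟩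
  refine ⟨fun K _ _ => ?_⟩
  haveI : PreservesLimitsOfShape K (emb A ⋙ sheafToPresheaf (regularTopology A) AddCommGrpCat.{u}) :=
    inferInstanceAs (PreservesLimitsOfShape K (preadditiveYoneda (C := A)))
  exact preservesLimitsOfShape_of_reflects_of_preserves (emb A) (sheafToPresheaf _ _)

instance additive_emb : (emb A).Additive :=
  ⟨fun {X Y f g} => Sheaf.hom_ext (by ext T x; exact Preadditive.comp_add _ _ _ (show T.unop ⟶ X from x) f g)⟩

lemma epi_emb_map {X Y : A} (f : X ⟶ Y) [Epi f] : Epi ((emb A).map f) := by
  haveI : Sheaf.IsLocallySurjective ((emb A).map f) := by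
    change Presheaf.IsLocallySurjective (regularTopology A) (preadditiveYoneda.map f)
    rw [regularTopology.isLocallySurjective_iff]
    intro T y
    haveI : Epi (pullback.snd f (show T ⟶ Y from y)) := inferInstance
    exact ⟨pullback f (show T ⟶ Y from y), pullback.snd _ _,
      (regularEpiOfEpi (pullback.snd f (show T ⟶ Y from y))).effectiveEpi, pullback.fst _ _,
      pullback.condition⟩
  exact Sheaf.epi_of_isLocallySurjective _

lemma preservesFiniteColimits_emb : PreservesFiniteColimits (emb A) := by
  haveI := preservesFiniteLimits_emb A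
  haveI : (emb A).PreservesEpimorphisms := ⟨fun f hf => epi_emb_map A f⟩
  haveI := (emb A).preservesHomology_of_preservesEpis_and_kernels
  exact (emb A).preservesFiniteColimits_of_preservesHomology

lemma hasEnoughPoints : GrothendieckTopology.HasEnoughPoints.{u} (regularTopology A) := by
  refine Deligne.hasEnoughPoints (Q := fun _ : A => True) ⟨fun X => ⟨⊤, GrothendieckTopology.top_mem _ X,
    fun Y f _ => ⟨Y, 𝟙 Y, f, trivial, id_comp f⟩⟩, fun {P Q D} f g _ _ _ =>
      ⟨pullback f g, pullback.fst f g, pullback.snd f g, trivial, IsPullback.of_hasPullback f g⟩, ?_⟩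
  intro U _ S hS
  obtain ⟨Y, π, hπ, hS'⟩ := (regularTopology.mem_sieves_iff_hasEffectiveEpi S).1 hS
  refine ⟨1, fun _ => Y, fun _ => π, fun _ => trivial, fun _ => hS', ?_⟩
  exact (regularTopology.mem_sieves_iff_hasEffectiveEpi _).2
    ⟨Y, π, hπ, Sieve.ofArrows_mk _ (fun _ : Fin 1 => π) 0⟩

end Groth.Agent.RegularAb
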